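import Cfsg.Agent.H613.KKL.Defs
import Cfsg.Agent.H662.IndLocal
import Cfsg.Agent.S4438

/-!
# S4546, piece B1 (helper581, task 5702)

* `B1`  : if a block `B` with defect group `D ≤ N` covers the `G`-stable block `b` of the normal subgroup `N`, then `D` is
  a defect group of `b`;
* `B1'` : in this situation the `G`-conjugates of `D` are `N`-conjugate.
-/

set_option autoImplicit false

namespace Cfsg.Agent.H581.KKL

open Cfsg Cfsg.Agent.H613.KKL Cfsg.Agent.H662

universe u

section gen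

variable {G : Type u} [Group G] [Finite G] {p : ℕ} [Fact p.Prime] {M : Ideal AlgInt}
  {N : Subgroup G} [N.Normal] {b : Set (IrrCharacter ↥N)}

omit [Finite G] in
theorem tr_mem (hst : ∀ g : G, StabilizesBlock N b g) (g : G) {ξ : IrrCharacter ↥N} (hξ : ξ ∈ b) :
    tr (MulAut.conjNormal (H := N) g) ξ ∈ b := by
  obtain ⟨χ', hχ', h⟩ := (hst g).2 ξ hξ
  have h1 : tr (MulAut.conjNormal (H := N) g) ξ = χ' := by
    apply Subtype.ext
    funext n
    obtain ⟨k, rfl⟩ := (MulAut.conjNormal (H := N) g).surjective n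
    rw [tr_apply_map]
    exact (h k _ (MulAut.conjNormal_apply g k)).symm
  rw [h1]
  exact hχ'

omit [Finite G] in
theorem trB_eq (hst : ∀ g : G, StabilizesBlock N b g) (g : G) : trB (MulAut.conjNormal (H := N) g) b = b := by
  ext ξ
  rw [mem_trB]
  constructor
  · intro h
    have h1 := tr_mem hst g h
    rwa [tr_tr_symm] at h1
  · intro h
    have h1 := tr_mem hst g⁻¹ h
    rw [map_inv] at h1
    exact h1

omit [Finite G] [Fact p.Prime] in
theorem defect_conj (hst : ∀ g : G, StabilizesBlock N b g) {E : Subgroup ↥N} (hE : IsDefectGroup p M b E) (g : G) :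
    IsDefectGroup p M b (E.map (MulAut.conjNormal (H := N) g).toMonoidHom) := by
  have h1 := isDefectGroup_trB (MulAut.conjNormal (H := N) g) hE
  rwa [trB_eq hst g] at h1

theorem defect_of_cov (hM : IsPModular p M) {B : Set (IrrCharacter G)} (hB : IsPBlock M B) {D : Subgroup G}
    (hD : IsDefectGroup p M B D) (hb : IsPBlock M b) (hst : ∀ g : G, StabilizesBlock N b g) (hcov : Cov N b B)
    (hDN : D ≤ N) : IsDefectGroup p M b (D.subgroupOf N) := by
  have := Fintype.ofFinite G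
  have hfN := Fintype.ofFinite ↥N
  obtain ⟨E, hE⟩ := exists_defectGroup hM hb
  have hQN : E.map N.subtype ≤ N := Subgroup.map_subtype_le E
  have hE2 : (E.map N.subtype).subgroupOf N = E := Subgroup.comap_map_eq_self_of_injective N.subtype_injective E
  obtain ⟨χ, hχ, θ, hθ, hne⟩ := hcov
  obtain ⟨P, hP, hPN⟩ := Cfsg.Agent.S4438.result p M hM N b hb (E.map N.subtype) hQN (by rw [hE2]; exact hE) B hB
    ⟨χ, hχ, θ, hθ, by convert hne⟩
  obtain ⟨x, hx⟩ := defectGroup_conj hM hB hP hD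
  have hPle : P ≤ N := by
    intro y hy
    have h1 : x * y * x⁻¹ ∈ N := hDN (by rw [hx]; exact ⟨y, hy, rfl⟩)
    have h2 := (inferInstance : N.Normal).conj_mem _ h1 x⁻¹
    have h3 : x⁻¹ * (x * y * x⁻¹) * x⁻¹⁻¹ = y := by group
    rwa [h3] at h2
  rw [inf_eq_left.2 hPle] at hPN
  have h4 : D.subgroupOf N = E.map (MulAut.conjNormal (H := N) x).toMonoidHom := by
    ext n
    rw [Subgroup.mem_subgroupOf, hx, hPN]
    constructor
    · rintro ⟨_, ⟨e, he, rfl⟩, h⟩
      refine ⟨e, he, Subtype.ext ?_⟩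
      rw [← h]
      exact MulAut.conjNormal_apply x e
    · rintro ⟨e, he, rfl⟩
      exact ⟨e, ⟨e, he, rfl⟩, (MulAut.conjNormal_apply x e).symm⟩
  rw [h4]
  exact defect_conj hst hE x

theorem frattini_of_cov (hM : IsPModular p M) {B : Set (IrrCharacter G)} (hB : IsPBlock M B) {D : Subgroup G}
    (hD : IsDefectGroup p M B D) (hb : IsPBlock M b) (hst : ∀ g : G, StabilizesBlock N b g) (hcov : Cov N b B)
    (hDN : D ≤ N) (g : G) : ∃ n ∈ N, ∀ d ∈ D, n * (g * d * g⁻¹) * n⁻¹ ∈ D := by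
  have h1 := defect_of_cov hM hB hD hb hst hcov hDN
  obtain ⟨n, hn⟩ := defectGroup_conj hM hb (defect_conj hst h1 g) h1
  refine ⟨n, n.2, fun d hd => ?_⟩
  have h2 : n * MulAut.conjNormal (H := N) g ⟨d, hDN hd⟩ * n⁻¹ ∈ D.subgroupOf N := by
    rw [hn]
    exact ⟨_, ⟨⟨d, hDN hd⟩, Subgroup.mem_subgroupOf.2 hd, rfl⟩, rfl⟩
  rw [Subgroup.mem_subgroupOf, Subgroup.coe_mul, Subgroup.coe_mul, MulAut.conjNormal_apply] at h2
  exact h2

end gen

variable {G : Type u} [Group G] [Finite G] {M : Ideal AlgInt} (hM : IsPModular 2 M) {B : Set (IrrCharacter G)}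
  (hB : IsPBlock M B) {D : Subgroup G} (hD : IsDefectGroup 2 M B D) (h8 : E8 D)
include hM hB hD h8

/-- B1: `D ≤ N`: a `G`-stable covered block of `N` has defect group `D`. -/
theorem B1 (N : Subgroup G) [N.Normal] (b : Set (IrrCharacter ↥N)) (hb : IsPBlock M b)
    (hst : ∀ g : G, StabilizesBlock N b g) (hcov : Cov N b B) (hDN : D ≤ N) :
    IsDefectGroup 2 M b (D.subgroupOf N) := by
  have : Fact (Nat.Prime 2) := ⟨Nat.prime_two⟩
  have _ := h8
  exact defect_of_cov hM hB hD hb hst hcov hDN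

/-- B1': the `G`-conjugates of `D` are `N`-conjugate. -/
theorem B1' (N : Subgroup G) [N.Normal] (b : Set (IrrCharacter ↥N)) (hb : IsPBlock M b)
    (hst : ∀ g : G, StabilizesBlock N b g) (hcov : Cov N b B) (hDN : D ≤ N) (g : G) :
    ∃ n ∈ N, ∀ d ∈ D, n * (g * d * g⁻¹) * n⁻¹ ∈ D := by
  have : Fact (Nat.Prime 2) := ⟨Nat.prime_two⟩
  have _ := h8
  exact frattini_of_cov hM hB hD hb hst hcov hDN g

end Cfsg.Agent.H581.KKL
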