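import Cfsg.Agent.H581.KKL.Act
import Cfsg.Agent.H608.KKL.C1
import Cfsg.Agent.H641.Inertial
import Cfsg.Agent.S4675

/-!
# S4546, piece A4 (helper581): inertial quotient of order prime to 7, all heights zero
-/

set_option autoImplicit false
set_option linter.unusedSectionVars false

open Cfsg

namespace Cfsg.Agent.H581.KKL

open Cfsg.Agent.Blocks.Local Cfsg.Agent.Characters
open Cfsg.Agent.H649 Cfsg.Agent.H651 Cfsg.Agent.H652.DoubleCount
open Cfsg.Agent.H645.FusCount (stab mem_stab ctrl_of_abelian)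
open Cfsg.Agent.H644 (isMaximalBrauerPair_of_isDefectGroup isDefectGroup_of_isMaximalBrauerPair)
open Cfsg.Agent.H613.KKL Cfsg.Agent.H608.KKL

universe u

section formula

variable {G : Type u} [Group G] [Finite G] {M : Ideal AlgInt}

/-- Brauer's formula for `k(B)`, abelian defect group, explicit coefficients. -/
theorem card_formula' [Fintype G] [M.IsPrime] [Fact (Nat.Prime 2)] (hM : IsPModular 2 M) {B : Set (IrrCharacter G)}
    {a : BrauerPairIdx G} (hmax : IsMaximalBrauerPair 2 M B a.1 a.2)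
    (hab : ∀ x ∈ a.1, ∀ y ∈ a.1, x * y = y * x) [Fintype a.1] :
    Nat.card B * (Subgroup.centralizer (a.1 : Set G)).relIndex (stab a) =
      ∑ v : a.1, (Subgroup.centralizer (a.1 : Set G)).relIndex
        (stab a ⊓ Subgroup.centralizer ({(v : G)} : Set G)) * blockRank 2 (bP 2 M a (v : G)).2 := by
  set C : Subgroup G := Subgroup.centralizer (a.1 : Set G) with hC
  have hCT : C ≤ stab a := Cfsg.Agent.H608.F5.centralizer_le_stab hM hmax
  have hCv : ∀ v : a.1, C ≤ stab a ⊓ Subgroup.centralizer ({(v : G)} : Set G) := fun v =>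
    le_inf hCT (Subgroup.centralizer_le (Set.singleton_subset_iff.2 v.2))
  have h1 := Cfsg.Agent.H645.TraceForm.card_eq hM hmax (ctrl_of_abelian hM hmax hab)
  have hC0 : (Nat.card C : ℂ) ≠ 0 := by exact_mod_cast Nat.card_pos.ne'
  have hS0 : (Nat.card (stab a) : ℂ) ≠ 0 := by exact_mod_cast Nat.card_pos.ne'
  have h2 : (Nat.card (stab a) : ℂ) * Nat.card B = ∑ v : a.1,
      ((Nat.card (stab a ⊓ Subgroup.centralizer ({(v : G)} : Set G) : Subgroup G) : ℂ) *
        blockRank 2 (bP 2 M a (v : G)).2) := by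
    rw [h1, mul_inv_cancel_left₀ hS0]
  rw [← card_mul_relIndex hCT] at h2
  have h3 : ∀ v : a.1, (Nat.card (stab a ⊓ Subgroup.centralizer ({(v : G)} : Set G) : Subgroup G) : ℂ) =
      Nat.card C * C.relIndex (stab a ⊓ Subgroup.centralizer ({(v : G)} : Set G)) := fun v => by
    rw [← card_mul_relIndex (hCv v)]; push_cast; rfl
  rw [Finset.sum_congr rfl fun v _ => by rw [h3 v, mul_assoc], ← Finset.mul_sum] at h2
  push_cast at h2
  rw [mul_assoc] at h2
  have h4 := mul_left_cancel₀ hC0 h2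
  rw [mul_comm] at h4
  exact_mod_cast h4

end formula

section rankone

variable {G : Type u} [Group G] [Finite G] {M : Ideal AlgInt}

/-- `l(B) = 1` and `|D| = 8`: `k(B) ≡ 2 mod 3`. -/
theorem card_mod_three (hM : IsPModular 2 M) {B : Set (IrrCharacter G)} (hB : IsPBlock M B) {D : Subgroup G}
    (hD : IsDefectGroup 2 M B D) (h8 : Nat.card D = 8) (hl : blockRank 2 B = 1) : Nat.card B % 3 = 2 := by
  classical
  have : Fact (Nat.Prime 2) := ⟨Nat.prime_two⟩
  have := Fintype.ofFinite G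
  have hfin : Finite (IrrCharacter G) := Core.finite_irr
  have := Fintype.ofFinite (IrrCharacter G)
  obtain ⟨φ, d, -, hd, hsum⟩ := Cfsg.Agent.S4675.result 2 M hM B hB D hD hl
  rw [h8, finsum_mem_eq_toFinset_sum] at hsum
  have hd0 : ∀ χ ∈ B, d χ ≠ 0 := by
    intro χ hχ h0
    have h1 := hd χ hχ 1 (by rw [IsPRegular, orderOf_one]; norm_num)
    rw [h0, Nat.cast_zero, zero_mul] at h1
    exact Cfsg.Agent.Blocks.Basic.irr_one_ne_zero χ.2 h1
  have hd2 : ∀ χ ∈ B, d χ ≤ 2 := by
    intro χ hχ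
    have h1 : d χ ^ 2 ≤ 8 := by
      rw [← hsum]
      exact Finset.single_le_sum (f := fun χ => d χ ^ 2) (fun _ _ => Nat.zero_le _) (Set.mem_toFinset.2 hχ)
    by_contra h2
    push Not at h2
    have h3 : 3 ^ 2 ≤ d χ ^ 2 := Nat.pow_le_pow_left h2 2
    omega
  have h1 : (∑ χ ∈ B.toFinset, d χ ^ 2) % 3 = (∑ χ ∈ B.toFinset, 1) % 3 := by
    refine (Finset.sum_nat_mod _ _ _).trans (Eq.trans ?_ (Finset.sum_nat_mod _ _ _).symm)
    congr 1
    refine Finset.sum_congr rfl fun χ hχ => ?_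
    have h2 := hd0 χ (Set.mem_toFinset.1 hχ)
    have h3 := hd2 χ (Set.mem_toFinset.1 hχ)
    have h4 : d χ = 1 ∨ d χ = 2 := by omega
    rcases h4 with h4 | h4 <;> rw [h4] <;> norm_num
  rw [hsum, Finset.sum_const, smul_eq_mul, mul_one, Set.toFinset_card, ← Nat.card_eq_fintype_card] at h1
  omega

end rankone

section main

variable {G : Type u} [Group G] [Finite G] {M : Ideal AlgInt} (hM : IsPModular 2 M) {B : Set (IrrCharacter G)}
  (hB : IsPBlock M B) {D : Subgroup G} (hD : IsDefectGroup 2 M B D) (h8 : E8 D)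
include hM hB hD h8

/-- A4: inertial quotient of order 1 or 3: all heights zero. -/
theorem A4 (c : Set (IrrCharacter ↥(Subgroup.centralizer (D : Set G))))
    (hc : IsInducedBlock M (Subgroup.centralizer (D : Set G)) c B) (T : Subgroup G)
    (hT : ∀ g : G, g ∈ T ↔ (g ∈ Subgroup.normalizer (D : Set G) ∧
      StabilizesBlock (Subgroup.centralizer (D : Set G)) c g))
    (h7 : ¬ 7 ∣ (Subgroup.centralizer (D : Set G)).relIndex T) : ∀ χ ∈ B, blockHeight 2 B (χ : G → ℂ) = 0 := by
  classical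
  have : Fact (Nat.Prime 2) := ⟨Nat.prime_two⟩
  have hMp := isPrime_of_isPModular hM
  have := Fintype.ofFinite G
  obtain ⟨a, ha⟩ : ∃ a : BrauerPairIdx G, a = ⟨D, c⟩ := ⟨_, rfl⟩
  have hD' : a.1 = D := by rw [ha]
  have hmax : IsMaximalBrauerPair 2 M B a.1 a.2 := by
    rw [ha]; exact Cfsg.Agent.H641.isMaximal_of_induced hM hD hc
  have hTs : stab a = T := by
    ext g
    rw [mem_stab, hT, ha]
    exact conjIdx_eq_iff hc.1 g
  have h8' : E8 a.1 := by rw [hD']; exact h8
  have hab := comm_of_inv h8'.inv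
  have := Fintype.ofFinite a.1
  set C : Subgroup G := Subgroup.centralizer (a.1 : Set G) with hC
  have hCT : C ≤ stab a := Cfsg.Agent.H608.F5.centralizer_le_stab hM hmax
  have h7' : ¬ 7 ∣ C.relIndex (stab a) := by
    rw [hTs, hC, hD']; exact h7
  have hodd : Odd (C.relIndex (stab a)) := by
    have h1 := Cfsg.Agent.H645.TraceForm.not_dvd_relIndex_stab hM hmax hab
    rwa [← Nat.not_even_iff_odd, even_iff_two_dvd]
  -- the action
  have hTN : stab a ≤ Subgroup.normalizer (a.1 : Set G) := by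
    intro g hg
    rw [hTs, hT] at hg
    rw [hD']
    exact hg.1
  let ρ : stab a →* MulAut a.1 := a.1.normalizerMonoidHom.comp (Subgroup.inclusion hTN)
  have hρ : ∀ (t : stab a) (v : a.1), ((ρ t v : a.1) : G) = t * v * (t : G)⁻¹ := fun _ _ => rfl
  have hker : ρ.ker = C.subgroupOf (stab a) := by
    ext t
    rw [MonoidHom.mem_ker, Subgroup.mem_subgroupOf, hC, Subgroup.mem_centralizer_iff]
    constructor
    · intro h v hv
      have h1 : ((ρ t ⟨v, hv⟩ : a.1) : G) = v := by rw [h]; rfl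
      rw [hρ] at h1
      exact (mul_inv_eq_iff_eq_mul.1 h1).symm
    · intro h
      ext v
      rw [hρ, ← h v v.2, mul_inv_cancel_right]
      rfl
  have hcardE : Nat.card ρ.range = C.relIndex (stab a) := by
    rw [← Subgroup.index_ker, hker]
    rfl
  obtain ⟨u, hu1, huE, hfree⟩ := exists_fixed (D := a.1) h8'.card (E := ρ.range) (by rw [hcardE]; exact hodd)
    (by rw [hcardE]; exact h7')
  have huT : ∀ t ∈ stab a, t * (u : G) * t⁻¹ = u := by
    intro t ht
    have h1 := huE (ρ ⟨t, ht⟩) ⟨_, rfl⟩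
    have h2 := congrArg Subtype.val h1
    rwa [hρ] at h2
  -- the local ranks
  have hloc : ∀ v : a.1, v ≠ 1 → blockRank 2 (bP 2 M a (v : G)).2 = 1 ∨ blockRank 2 (bP 2 M a (v : G)).2 = 3 := by
    intro v hv
    obtain ⟨h1, h2⟩ := bP_spec hM hmax.1.1 v.2
    refine rank_pair hM hmax hab (Q := (bP 2 M a (v : G)).1) h2 ?_ fun d hd => ?_
    · rw [h1, Nat.card_zpowers, h8'.card]
      have h3 : orderOf (v : G) = 2 := by
        rw [orderOf_eq_prime_iff]
        exact ⟨by rw [pow_two]; exact h8'.inv _ v.2, fun h => hv (Subtype.ext h)⟩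
      rw [h3]
    · rw [h8'.inv d hd]; exact Subgroup.one_mem _
  have hlu : blockRank 2 (bP 2 M a (u : G)).2 = blockRank 2 B :=
    Cfsg.Agent.H645.Watanabe.rank_eq hM hmax hab u.2 huT
  have hl1 : blockRank 2 (bP 2 M a ((1 : a.1) : G)).2 = blockRank 2 B :=
    Cfsg.Agent.H645.Watanabe.rank_eq hM hmax hab (1 : a.1).2 (fun t _ => by
      rw [Subgroup.coe_one, mul_one, mul_inv_cancel])
  -- the bound
  have hdef : (2 : ℕ) ^ blockDefect 2 B = 8 := by
    rw [← Cfsg.Agent.S0908.result 2 M hM B hB D hD, h8.card]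
  have hbd := bound hM hmax hab u.2 (by rcases hloc u hu1 with h | h <;> omega)
  rw [hdef] at hbd
  refine hbd.2 ?_
  -- the formula
  have hsum := card_formula' hM hmax hab
  rw [← hC] at hsum
  have hc1 : C.relIndex (stab a ⊓ Subgroup.centralizer ({((1 : a.1) : G)} : Set G)) = C.relIndex (stab a) := by
    have h1 : Subgroup.centralizer ({((1 : a.1) : G)} : Set G) = ⊤ := by
      rw [eq_top_iff]
      intro g _
      rw [Subgroup.mem_centralizer_singleton_iff, Subgroup.coe_one, mul_one, one_mul]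
    rw [h1, inf_top_eq]
  have hcu : C.relIndex (stab a ⊓ Subgroup.centralizer ({(u : G)} : Set G)) = C.relIndex (stab a) := by
    have h1 : stab a ≤ Subgroup.centralizer ({(u : G)} : Set G) := by
      intro t ht
      rw [Subgroup.mem_centralizer_singleton_iff]
      exact mul_inv_eq_iff_eq_mul.1 (huT t ht)
    rw [inf_eq_left.2 h1]
  have hcv : ∀ v : a.1, v ≠ 1 → v ≠ u → C.relIndex (stab a ⊓ Subgroup.centralizer ({(v : G)} : Set G)) = 1 := by
    intro v hv1 hvu
    rw [Subgroup.relIndex_eq_one]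
    rintro t ⟨ht, htv⟩
    have htv' := Subgroup.mem_centralizer_singleton_iff.1 htv
    have h1 := hfree v hv1 hvu (ρ ⟨t, ht⟩) ⟨_, rfl⟩ (by
      apply Subtype.ext
      rw [hρ]
      exact mul_inv_eq_iff_eq_mul.2 htv')
    have h2 : (⟨t, ht⟩ : stab a) ∈ ρ.ker := h1
    rw [hker] at h2
    exact Subgroup.mem_subgroupOf.1 h2
  rw [← Finset.add_sum_erase _ _ (Finset.mem_univ (1 : a.1)),
    ← Finset.add_sum_erase _ _ (Finset.mem_erase.2 ⟨hu1, Finset.mem_univ u⟩), hc1, hcu, hl1, hlu] at hsum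
  have hrest : ∀ v ∈ (Finset.univ.erase (1 : a.1)).erase u,
      C.relIndex (stab a ⊓ Subgroup.centralizer ({(v : G)} : Set G)) * blockRank 2 (bP 2 M a (v : G)).2 =
        blockRank 2 (bP 2 M a (v : G)).2 := by
    intro v hv
    rw [Finset.mem_erase, Finset.mem_erase] at hv
    rw [hcv v hv.2.1 hv.1, one_mul]
  rw [Finset.sum_congr rfl hrest] at hsum
  have hcard : ((Finset.univ.erase (1 : a.1)).erase u).card = 6 := by
    rw [Finset.card_erase_of_mem (Finset.mem_erase.2 ⟨hu1, Finset.mem_univ u⟩),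
      Finset.card_erase_of_mem (Finset.mem_univ _), Finset.card_univ, ← Nat.card_eq_fintype_card, h8'.card]
  have hval : ∀ v ∈ (Finset.univ.erase (1 : a.1)).erase u, blockRank 2 (bP 2 M a (v : G)).2 = 1 ∨
      blockRank 2 (bP 2 M a (v : G)).2 = 3 := by
    intro v hv
    rw [Finset.mem_erase, Finset.mem_erase] at hv
    exact hloc v hv.2.1
  obtain ⟨S, hS⟩ : ∃ S, S = ∑ v ∈ (Finset.univ.erase (1 : a.1)).erase u, blockRank 2 (bP 2 M a (v : G)).2 := ⟨_, rfl⟩
  rw [← hS] at hsum
  have hSpar : S % 2 = 0 := by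
    rw [hS, Finset.sum_nat_mod]
    have h1 : ∀ v ∈ (Finset.univ.erase (1 : a.1)).erase u, blockRank 2 (bP 2 M a (v : G)).2 % 2 = 1 := by
      intro v hv
      rcases hval v hv with h | h <;> rw [h]
    rw [Finset.sum_congr rfl h1, Finset.sum_const, hcard, smul_eq_mul]
  have hSpos : 6 ≤ S := by
    have h1 : ∑ v ∈ (Finset.univ.erase (1 : a.1)).erase u, 1 ≤ S := by
      rw [hS]
      refine Finset.sum_le_sum fun v hv => ?_
      rcases hval v hv with h | h <;> rw [h]
      norm_num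
    rw [Finset.sum_const, hcard] at h1
    exact h1
  -- arithmetic
  have hle := hbd.1
  obtain ⟨k, hk⟩ : ∃ k, k = Nat.card B := ⟨_, rfl⟩
  obtain ⟨l, hl⟩ : ∃ l, l = blockRank 2 B := ⟨_, rfl⟩
  obtain ⟨e, he⟩ : ∃ e, e = C.relIndex (stab a) := ⟨_, rfl⟩
  have hmod : l = 1 → k % 3 = 2 := fun h => by
    rw [hk]
    exact card_mod_three hM hB hD h8.card (hl.symm.trans h)
  have hl13 : l = 1 ∨ l = 3 := by
    have := hloc u hu1
    rw [hlu, ← hl] at this
    exact this
  rw [← hk, ← hl, ← he] at hsum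
  rw [← hk] at hle ⊢
  rw [← he] at hodd
  have hepos : 0 < e := hodd.pos
  -- `k > 2 l`
  obtain ⟨r, hr⟩ : ∃ r, k = 2 * l + r := by
    refine ⟨k - 2 * l, ?_⟩
    have : 2 * l ≤ k := by
      by_contra hcon
      push Not at hcon
      have h1 : k * e ≤ (2 * l) * e := Nat.mul_le_mul_right e hcon.le
      nlinarith
    omega
  have hre : r * e = S := by
    rw [hr] at hsum
    have h1 : (2 * l + r) * e = e * l + e * l + r * e := by ring
    rw [h1] at hsum
    omega
  have hr2 : r % 2 = 0 := by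
    rcases Nat.even_or_odd r with h | h
    · exact Nat.even_iff.1 h
    · exfalso
      have h1 : Odd (r * e) := h.mul hodd
      rw [hre] at h1
      exact absurd (Nat.odd_iff.1 h1) (by omega)
  have hr0 : r ≠ 0 := by
    rintro rfl
    omega
  rcases hl13 with h | h
  · have h1 := hmod h
    omega
  · omega

end main

end Cfsg.Agent.H581.KKL
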