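import Mathlib

/-!
# S4546, piece A4 (helper581): groups of odd order prime to 7 acting on an elementary abelian group of order 8
-/

set_option autoImplicit false
set_option linter.unusedSectionVars false

namespace Cfsg.Agent.H581.KKL

universe u

variable {D : Type u} [Group D] [Finite D]

/-- the fixed points of a group of automorphisms -/
def fixSub (E : Subgroup (MulAut D)) : Subgroup D where
  carrier := {v | ∀ φ ∈ E, φ v = v}
  one_mem' := fun φ _ => map_one φ
  mul_mem' := fun {a b} ha hb φ hφ => by rw [map_mul, ha φ hφ, hb φ hφ]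
  inv_mem' := fun {a} ha φ hφ => by rw [map_inv, ha φ hφ]

theorem mem_fixSub {E : Subgroup (MulAut D)} {v : D} : v ∈ fixSub E ↔ ∀ φ ∈ E, φ v = v := Iff.rfl

/-- the congruence for `p`-groups of automorphisms -/
theorem modEq {E : Subgroup (MulAut D)} {p : ℕ} [Fact p.Prime] (hE : IsPGroup p E) :
    Nat.card D ≡ Nat.card (fixSub E) [MOD p] := by
  have h := hE.card_modEq_card_fixedPoints D
  have e : (MulAction.fixedPoints E D : Set D) = (fixSub E : Set D) := by
    ext v
    rw [MulAction.mem_fixedPoints, SetLike.mem_coe, mem_fixSub]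
    exact ⟨fun h φ hφ => h ⟨φ, hφ⟩, fun h φ => h φ φ.2⟩
  rw [e] at h
  exact h

theorem card_fix_cases (h8 : Nat.card D = 8) (E : Subgroup (MulAut D)) :
    Nat.card (fixSub E) = 1 ∨ Nat.card (fixSub E) = 2 ∨ Nat.card (fixSub E) = 4 ∨ Nat.card (fixSub E) = 8 := by
  have h1 : Nat.card (fixSub E) ∣ 2 ^ 3 := by
    have := Subgroup.card_subgroup_dvd_card (fixSub E)
    rw [h8] at this
    exact this
  obtain ⟨k, hk, h2⟩ := (Nat.dvd_prime_pow Nat.prime_two).1 h1
  interval_cases k <;> rw [h2] <;> simp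

theorem eq_bot_of_fix (h8 : Nat.card D = 8) {E : Subgroup (MulAut D)} (h : Nat.card (fixSub E) = 8) : E = ⊥ := by
  rw [Subgroup.eq_bot_iff_forall]
  intro φ hφ
  have h1 : fixSub E = ⊤ := Subgroup.eq_top_of_card_eq _ (by rw [h, h8])
  ext v
  have h2 : v ∈ fixSub E := by rw [h1]; exact Subgroup.mem_top v
  exact h2 φ hφ

/-- an odd group of automorphisms of order prime to 7 is a 3-group -/
theorem isPGroup_three (h8 : Nat.card D = 8) {E : Subgroup (MulAut D)} (hodd : Odd (Nat.card E))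
    (h7 : ¬ 7 ∣ Nat.card E) : IsPGroup 3 E := by
  have key : ∀ p : ℕ, p.Prime → p ∣ Nat.card E → p = 3 := by
    intro p hp hd
    have : Fact p.Prime := ⟨hp⟩
    obtain ⟨⟨φ, hφE⟩, hφ⟩ := exists_prime_orderOf_dvd_card' p hd
    rw [Subgroup.orderOf_mk] at hφ
    have hZ : IsPGroup p (Subgroup.zpowers φ) := IsPGroup.of_card (n := 1) (by rw [Nat.card_zpowers, hφ, pow_one])
    have h1 := modEq hZ
    have hne : Nat.card (fixSub (Subgroup.zpowers φ)) ≠ 8 := by
      intro h2
      have h3 := eq_bot_of_fix h8 h2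
      rw [Subgroup.zpowers_eq_bot] at h3
      rw [h3, orderOf_one] at hφ
      exact hp.one_lt.ne hφ
    rw [h8] at h1
    have h2 : p ≠ 2 := by
      rintro rfl
      exact (Nat.not_even_iff_odd.2 hodd) (even_iff_two_dvd.2 hd)
    have h3 : p ≠ 7 := by
      rintro rfl
      exact h7 hd
    have hle : ∀ n : ℕ, n ≠ 0 → p ∣ n → p ≤ n := fun n hn h => Nat.le_of_dvd (Nat.pos_of_ne_zero hn) h
    rcases card_fix_cases h8 (Subgroup.zpowers φ) with h4 | h4 | h4 | h4
    · rw [h4] at h1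
      have h5 : p ∣ 7 := (Nat.modEq_iff_dvd' (by norm_num)).1 h1.symm
      exact absurd ((Nat.prime_dvd_prime_iff_eq hp (by norm_num)).1 h5) h3
    · rw [h4] at h1
      have h5 : p ∣ 2 * 3 := (Nat.modEq_iff_dvd' (by norm_num)).1 h1.symm
      rcases (Nat.Prime.dvd_mul hp).1 h5 with h6 | h6
      · exact absurd ((Nat.prime_dvd_prime_iff_eq hp Nat.prime_two).1 h6) h2
      · exact (Nat.prime_dvd_prime_iff_eq hp Nat.prime_three).1 h6
    · rw [h4] at h1
      have h5 : p ∣ 2 ^ 2 := (Nat.modEq_iff_dvd' (by norm_num)).1 h1.symm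
      exact absurd ((Nat.prime_dvd_prime_iff_eq hp Nat.prime_two).1 (hp.dvd_of_dvd_pow h5)) h2
    · exact absurd h4 hne
  have h5 : Nat.card E = 3 ^ (Nat.card E).primeFactorsList.length :=
    Nat.eq_prime_pow_of_unique_prime_dvd Nat.card_pos.ne' (fun {d} hd hdP => key d hd hdP)
  exact IsPGroup.of_card h5

theorem three_cases (h8 : Nat.card D = 8) {E : Subgroup (MulAut D)} (h3 : IsPGroup 3 E) :
    Nat.card (fixSub E) = 2 ∨ Nat.card (fixSub E) = 8 := by
  have : Fact (Nat.Prime 3) := ⟨Nat.prime_three⟩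
  have h1 := modEq h3
  rw [h8] at h1
  rcases card_fix_cases h8 E with h4 | h4 | h4 | h4
  · rw [h4] at h1
    exact absurd h1 (by decide)
  · exact Or.inl h4
  · rw [h4] at h1
    exact absurd h1 (by decide)
  · exact Or.inr h4

/-- **The action.** -/
theorem exists_fixed (h8 : Nat.card D = 8) {E : Subgroup (MulAut D)} (hodd : Odd (Nat.card E))
    (h7 : ¬ 7 ∣ Nat.card E) : ∃ u : D, u ≠ 1 ∧ (∀ φ ∈ E, φ u = u) ∧
      ∀ v : D, v ≠ 1 → v ≠ u → ∀ φ ∈ E, φ v = v → φ = 1 := by
  have hE3 := isPGroup_three h8 hodd h7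
  have hex : ∃ u : D, u ≠ 1 ∧ u ∈ fixSub E := by
    have h1 : 1 < Nat.card (fixSub E) := by
      rcases three_cases h8 hE3 with h | h <;> omega
    have : Nontrivial (fixSub E) := (Finite.one_lt_card_iff_nontrivial).1 h1
    obtain ⟨u, hu⟩ := exists_ne (1 : fixSub E)
    exact ⟨u.1, fun h => hu (Subtype.ext h), u.2⟩
  obtain ⟨u, hu1, hu⟩ := hex
  refine ⟨u, hu1, hu, fun v hv1 hvu φ hφ hφv => ?_⟩
  have hZ : IsPGroup 3 (Subgroup.zpowers φ) := hE3.to_le ((Subgroup.zpowers_le).2 hφ)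
  have mem : ∀ x : D, φ x = x → x ∈ fixSub (Subgroup.zpowers φ) := by
    intro x hx ψ hψ
    have h1 : Subgroup.zpowers φ ≤ MulAction.stabilizer (MulAut D) x := (Subgroup.zpowers_le).2 hx
    exact h1 hψ
  rcases three_cases h8 hZ with h | h
  · exfalso
    have := Fintype.ofFinite (fixSub (Subgroup.zpowers φ))
    have h2 : 2 < Nat.card (fixSub (Subgroup.zpowers φ)) := by
      rw [Nat.card_eq_fintype_card, ← Finset.card_univ, Finset.two_lt_card]
      refine ⟨1, Finset.mem_univ _, ⟨u, mem u (hu φ hφ)⟩, Finset.mem_univ _, ⟨v, mem v hφv⟩, Finset.mem_univ _,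
        fun h => hu1 (congrArg Subtype.val h).symm, fun h => hv1 (congrArg Subtype.val h).symm,
        fun h => hvu (congrArg Subtype.val h).symm⟩
    omega
  · exact (Subgroup.zpowers_eq_bot).1 (eq_bot_of_fix h8 h)

end Cfsg.Agent.H581.KKL
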